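import Mathlib
import Groth.Agent.H15.FFDescElem
import Groth.Agent.H68.InvEt.Act

/-!
# Principal covers at the level of rings

`B` an `A`-algebra with an action of a finite group `G` by `A`-algebra automorphisms.
* If `G` acts freely on the geometric points of `B`, some element of `B` has trace one.
* If moreover `B` is unramified and faithfully flat over `A` and `G` acts transitively on the
  geometric points of `B` over a given geometric point of `A`, then `B^G = A`.
-/

set_option autoImplicit false

open TensorProduct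

namespace Groth.Agent.H68.AS

universe u

variable (A B : Type u) [CommRing A] [CommRing B] [Algebra A B]
  (G : Type*) [Group G] [Fintype G] [MulSemiringAction G B] [SMulCommClass G A B]

/-- `G` acts freely on the geometric points of `B` -/
def FreeOnPoints : Prop :=
  ∀ (Ω : Type u) [Field Ω] [IsAlgClosed Ω] (χ : B →+* Ω) (g : G),
    (∀ b, χ (g • b) = χ b) → g = 1

/-- `G` acts transitively on the geometric points of `B` over a geometric point of `A` -/
def TransOnPoints : Prop :=
  ∀ (Ω : Type u) [Field Ω] [IsAlgClosed Ω] (χ χ' : B →+* Ω),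
    χ.comp (algebraMap A B) = χ'.comp (algebraMap A B) → ∃ g : G, ∀ b, χ' b = χ (g • b)

section Trace

omit [Algebra A B] [SMulCommClass G A B] in
lemma smul_sum_smul (h : G) (b : B) : h • ∑ g : G, g • b = ∑ g : G, g • b := by
  rw [Finset.smul_sum]
  simp_rw [smul_smul]
  exact Fintype.sum_equiv (Equiv.mulLeft h) _ _ (fun g => rfl)

/-- the trace, as a linear map over the invariants -/
noncomputable def traceInv : B →ₗ[FixedPoints.subring B G] FixedPoints.subring B G where
  toFun b := ⟨∑ g : G, g • b, fun h => smul_sum_smul B G h b⟩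
  map_add' x y := by
    apply Subtype.ext
    simp [smul_add, Finset.sum_add_distrib]
  map_smul' a x := by
    apply Subtype.ext
    change ∑ g : G, g • ((a : B) * x) = (a : B) * ∑ g : G, g • x
    rw [Finset.mul_sum]
    refine Finset.sum_congr rfl fun g _ => ?_
    rw [smul_mul', a.2 g]

omit [Algebra A B] [SMulCommClass G A B] in
/-- if `G` acts freely on geometric points then the trace `B → B^G` is surjective -/
theorem exists_trace_one (hfree : FreeOnPoints B G) : ∃ c : B, ∑ g : G, g • c = 1 := by
  classical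
  by_contra hne
  have hI : LinearMap.range (traceInv B G) ≠ ⊤ := by
    intro htop
    have h1 : (1 : FixedPoints.subring B G) ∈ LinearMap.range (traceInv B G) := by
      rw [htop]
      trivial
    obtain ⟨c, hc⟩ := h1
    exact hne ⟨c, congrArg Subtype.val hc⟩
  obtain ⟨𝔪, hm, hle⟩ := Ideal.exists_le_maximal (LinearMap.range (traceInv B G)) hI
  have hinvt : Algebra.IsInvariant (FixedPoints.subring B G) B G := ⟨fun b hb => ⟨⟨b, hb⟩, rfl⟩⟩
  have hint : Algebra.IsIntegral (FixedPoints.subring B G) B :=
    Algebra.IsInvariant.isIntegral (FixedPoints.subring B G) B G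
  have hker : RingHom.ker (algebraMap (FixedPoints.subring B G) B) ≤ 𝔪 := by
    intro x hx
    rw [RingHom.mem_ker] at hx
    have : x = 0 := Subtype.ext hx
    rw [this]
    exact zero_mem _
  obtain ⟨𝔫, hnmax, hn⟩ := Ideal.exists_ideal_over_maximal_of_isIntegral 𝔪 hker
  letI : Field (B ⧸ 𝔫) := Ideal.Quotient.field 𝔫
  let Ω := AlgebraicClosure (B ⧸ 𝔫)
  let χ : B →+* Ω := (algebraMap (B ⧸ 𝔫) Ω).comp (Ideal.Quotient.mk 𝔫)
  have hχN : ∀ b, χ (∑ g : G, g • b) = 0 := by
    intro b
    have h1 : traceInv B G b ∈ 𝔪 := hle ⟨b, rfl⟩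
    rw [← hn, Ideal.mem_comap] at h1
    have h2 : (∑ g : G, g • b) ∈ 𝔫 := h1
    change algebraMap (B ⧸ 𝔫) Ω (Ideal.Quotient.mk 𝔫 _) = 0
    rw [Ideal.Quotient.eq_zero_iff_mem.mpr h2, map_zero]
  let f : G → (B →* Ω) := fun g => ((χ.comp (MulSemiringAction.toRingHom G B g)) : B →* Ω)
  have hf : Function.Injective f := by
    intro g h hgh
    have h1 : ∀ b, χ (g • b) = χ (h • b) := fun b => DFunLike.congr_fun hgh b
    have h2 : h * g⁻¹ = 1 := by
      apply hfree Ω χ
      intro b
      have := h1 (g⁻¹ • b)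
      rw [smul_smul, smul_smul, mul_inv_cancel, one_smul] at this
      exact this.symm
    exact (mul_inv_eq_one.mp h2).symm
  have hli := (linearIndependent_monoidHom B Ω).comp f hf
  have h0 := Fintype.linearIndependent_iff.mp hli (fun _ => (1 : Ω)) (by
    funext b
    simp only [Function.comp_apply, one_smul, Finset.sum_apply, Pi.zero_apply]
    have := hχN b
    rw [map_sum] at this
    exact this) (1 : G)
  exact one_ne_zero h0

end Trace

section Invariants

/-- the twisted multiplication `x ⊗ y ↦ x * g • y` -/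
noncomputable def twMul (g : G) : B ⊗[A] B →+* B :=
  (Algebra.TensorProduct.lmul' A : B ⊗[A] B →ₐ[A] B).toRingHom.comp
    (IE.Act.tensorAut A B B G g : B ⊗[A] B →+* B ⊗[A] B)

lemma twMul_apply (g : G) (z : B ⊗[A] B) :
    twMul A B G g z = Algebra.TensorProduct.lmul' A (IE.Act.tensorAut A B B G g z) := rfl

@[simp] lemma twMul_tmul (g : G) (x y : B) : twMul A B G g (x ⊗ₜ[A] y) = x * g • y := by
  rw [twMul_apply, IE.Act.tensorAut_tmul, Algebra.TensorProduct.lmul'_apply_tmul]

variable [Algebra.FormallyUnramified A B] [Algebra.EssFiniteType A B]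

omit [Fintype G] [MulSemiringAction G B] [SMulCommClass G A B] in
lemma mul_elem_eq_zero (w : B ⊗[A] B) (hw : Algebra.TensorProduct.lmul' A w = 0) :
    w * Algebra.FormallyUnramified.elem A B = 0 := by
  have hw' : w ∈ KaehlerDifferential.ideal A B := hw
  rw [← KaehlerDifferential.span_range_eq_ideal] at hw'
  refine Submodule.span_induction ?_ ?_ ?_ ?_ hw'
  · rintro _ ⟨s, rfl⟩
    exact Algebra.FormallyUnramified.one_tmul_sub_tmul_one_mul_elem s
  · exact zero_mul _
  · intro x y _ _ hx hy
    rw [add_mul, hx, hy, add_zero]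
  · intro c x _ hx
    rw [smul_eq_mul, mul_assoc, hx, mul_zero]

/-- the twisted multiplications are jointly injective -/
theorem eq_zero_of_twMul_eq_zero (htrans : TransOnPoints A B G) (z : B ⊗[A] B)
    (hz : ∀ g : G, twMul A B G g z = 0) : z = 0 := by
  classical
  let t := Algebra.FormallyUnramified.elem A B
  let τ := IE.Act.tensorAut A B B G
  let tg : G → B ⊗[A] B := fun g => (τ g).symm t
  have key2 : ∀ g, z * tg g = 0 := by
    intro g
    have := mul_elem_eq_zero A B (τ g z) (hz g)
    have h := congrArg (τ g).symm this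
    rwa [map_mul, AlgEquiv.symm_apply_apply, map_zero] at h
  let ε := ∏ g : G, (1 - tg g)
  have hzε : z * ε = z := by
    have : ∀ s : Finset G, z * ∏ g ∈ s, (1 - tg g) = z := by
      intro s
      induction s using Finset.induction_on with
      | empty => simp
      | insert a s ha ih =>
        rw [Finset.prod_insert ha, ← mul_assoc, mul_sub, mul_one, key2, sub_zero, ih]
    exact this Finset.univ
  have hεnil : IsNilpotent ε := by
    rw [← mem_nilradical, nilradical_eq_sInf, Ideal.mem_sInf]
    intro 𝔮 h𝔮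
    haveI : 𝔮.IsPrime := h𝔮
    let Ω := AlgebraicClosure 𝔮.ResidueField
    let ψ : B ⊗[A] B →+* Ω :=
      (algebraMap 𝔮.ResidueField Ω).comp (algebraMap (B ⊗[A] B) 𝔮.ResidueField)
    have hkerψ : ∀ x, ψ x = 0 → x ∈ 𝔮 := by
      intro x hx
      have h1 : algebraMap (B ⊗[A] B) 𝔮.ResidueField x = 0 :=
        (algebraMap 𝔮.ResidueField Ω).injective (hx.trans (map_zero _).symm)
      exact Ideal.algebraMap_residueField_eq_zero.mp h1
    let χ : B →+* Ω := ψ.comp (Algebra.TensorProduct.includeLeftRingHom)
    let χ' : B →+* Ω :=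
      ψ.comp (Algebra.TensorProduct.includeRight : B →ₐ[A] B ⊗[A] B).toRingHom
    have hAA : χ.comp (algebraMap A B) = χ'.comp (algebraMap A B) := by
      ext a
      change ψ ((algebraMap A B a) ⊗ₜ[A] (1 : B)) = ψ ((1 : B) ⊗ₜ[A] (algebraMap A B a))
      rw [Algebra.algebraMap_eq_smul_one, TensorProduct.smul_tmul]
    obtain ⟨g, hg⟩ := htrans Ω χ χ' hAA
    have hψ : ∀ w, ψ w = χ (twMul A B G g w) := by
      intro w
      induction w using TensorProduct.induction_on with
      | zero => simp
      | tmul x y =>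
        rw [twMul_tmul, map_mul, ← hg]
        have : x ⊗ₜ[A] y = (x ⊗ₜ[A] (1 : B)) * ((1 : B) ⊗ₜ[A] y) := by
          rw [Algebra.TensorProduct.tmul_mul_tmul, mul_one, one_mul]
        rw [this, map_mul]
        rfl
      | add x y hx hy => rw [map_add, map_add, map_add, hx, hy]
    apply hkerψ
    rw [hψ]
    have : twMul A B G g ε = 0 := by
      rw [map_prod]
      apply Finset.prod_eq_zero (Finset.mem_univ g)
      rw [map_sub, map_one, twMul_apply]
      change 1 - Algebra.TensorProduct.lmul' A (τ g ((τ g).symm t)) = 0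
      rw [AlgEquiv.apply_symm_apply, Algebra.FormallyUnramified.lmul_elem, sub_self]
    rw [this, map_zero]
  obtain ⟨n, hn⟩ := hεnil
  have hpow : ∀ n : ℕ, z * ε ^ n = z := by
    intro n
    induction n with
    | zero => simp
    | succ n ih => rw [pow_succ, ← mul_assoc, ih, hzε]
  rw [← hpow n, hn, mul_zero]

/-- `B^G = A` for a principal cover -/
theorem invariant_mem_range [Module.FaithfullyFlat A B] (htrans : TransOnPoints A B G) (b : B)
    (hb : ∀ g : G, g • b = b) : b ∈ Set.range (algebraMap A B) := by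
  have h0 : (1 : B) ⊗ₜ[A] b - b ⊗ₜ[A] (1 : B) = 0 := by
    apply eq_zero_of_twMul_eq_zero A B G htrans
    intro g
    rw [map_sub, twMul_tmul, twMul_tmul, hb g, smul_one, one_mul, mul_one, sub_self]
  have h1 : (1 : B) ⊗ₜ[A] b = b ⊗ₜ[A] (1 : B) := sub_eq_zero.mp h0
  have h2 := congrArg (LinearMap.lTensor B ((TensorProduct.mk A B A).flip 1)) h1
  simp only [LinearMap.lTensor_tmul, LinearMap.flip_apply, TensorProduct.mk_apply] at h2
  obtain ⟨a, ha⟩ := Groth.Agent.H15.FFD.exists_of_eq A B A (b ⊗ₜ[A] (1 : A)) (by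
    rw [Groth.Agent.H15.FFD.d₂_tmul]
    exact h2)
  refine ⟨a, ?_⟩
  have h3 := congrArg (TensorProduct.rid A B) ha
  simp only [TensorProduct.rid_tmul, one_smul] at h3
  rw [Algebra.algebraMap_eq_smul_one]
  exact h3

end Invariants

end Groth.Agent.H68.AS
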