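import Mathlib
import Groth.Prelude.Def_SGA1t
import Groth.Agent.H68.AS.Torsor

/-!
# From principal covers of `Spec A` to rings with a group action
-/

set_option autoImplicit false

open CategoryTheory CategoryTheory.Limits AlgebraicGeometry

namespace Groth.Agent.H68.AS

universe u v

/-- every finite étale cover of `Spec A` is the spectrum of a finite étale `A`-algebra -/
theorem exists_iso_Spec (A : Type u) [CommRing A] (P : FEt.Cat (Spec (CommRingCat.of A))) :
    ∃ (B : Type u) (_ : CommRing B) (_ : Algebra A B) (_ : Module.Finite A B)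
      (_ : Algebra.Etale A B) (θ : P.left ≅ Spec (CommRingCat.of B)),
      θ.hom ≫ Spec.map (CommRingCat.ofHom (algebraMap A B)) = P.hom := by
  let f : P.left ⟶ Spec (CommRingCat.of A) := P.hom
  have hZ : IsFinite f ∧ Etale f := P.prop
  haveI : IsFinite f := hZ.1
  haveI : Etale f := hZ.2
  haveI : IsAffine P.left := isAffine_of_isAffineHom f
  let φ : CommRingCat.of A ⟶ Γ(P.left, ⊤) :=
    (Scheme.ΓSpecIso (CommRingCat.of A)).inv ≫ f.appTop
  letI : Algebra A Γ(P.left, ⊤) := φ.hom.toAlgebra
  have hcomp : P.left.isoSpec.hom ≫ Spec.map φ = f := by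
    rw [Spec.map_comp, Scheme.isoSpec_hom, ← Scheme.toSpecΓ_naturality_assoc,
      toSpecΓ_SpecMap_ΓSpecIso_inv, Category.comp_id]
  have hprop : FEt.prop (Spec.map φ) := by
    have h1 : FEt.prop (P.left.isoSpec.hom ≫ Spec.map φ) := by rw [hcomp]; exact P.prop
    exact (MorphismProperty.cancel_left_of_respectsIso FEt.prop P.left.isoSpec.hom
      (Spec.map φ)).mp h1
  have hfin : Module.Finite A Γ(P.left, ⊤) := by
    have := hprop.1
    rw [IsFinite.SpecMap_iff] at this
    exact this
  have het : Algebra.Etale A Γ(P.left, ⊤) := by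
    have := hprop.2
    rw [HasRingHomProperty.Spec_iff (P := @Etale)] at this
    exact this
  exact ⟨Γ(P.left, ⊤), inferInstance, inferInstance, hfin, het, P.left.isoSpec, hcomp⟩

section Endo

variable {A : Type u} [CommRing A] {B : Type u} [CommRing B] [Algebra A B]
  {P : FEt.Cat (Spec (CommRingCat.of A))} (θ : P.left ≅ Spec (CommRingCat.of B))

/-- the ring endomorphism induced by an endomorphism of the cover -/
noncomputable def endo (α : P ⟶ P) : B →+* B := (Spec.preimage (θ.inv ≫ α.left ≫ θ.hom)).hom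

lemma specMap_endo (α : P ⟶ P) :
    Spec.map (CommRingCat.ofHom (endo θ α)) = θ.inv ≫ α.left ≫ θ.hom := by
  unfold endo
  rw [CommRingCat.ofHom_hom]
  exact Spec.map_preimage _

lemma endo_id : endo θ (𝟙 P) = RingHom.id B := by
  have h : Spec.map (CommRingCat.ofHom (endo θ (𝟙 P))) =
      Spec.map (CommRingCat.ofHom (RingHom.id B)) := by
    rw [specMap_endo]
    simp
  exact congrArg CommRingCat.Hom.hom (Spec.map_injective h)

lemma endo_comp (α β : P ⟶ P) : endo θ (α ≫ β) = (endo θ α).comp (endo θ β) := by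
  have h : Spec.map (CommRingCat.ofHom (endo θ (α ≫ β))) =
      Spec.map (CommRingCat.ofHom ((endo θ α).comp (endo θ β))) := by
    rw [CommRingCat.ofHom_comp, Spec.map_comp, specMap_endo, specMap_endo, specMap_endo]
    simp
  exact congrArg CommRingCat.Hom.hom (Spec.map_injective h)

variable (hθ : θ.hom ≫ Spec.map (CommRingCat.ofHom (algebraMap A B)) = P.hom)

include hθ in
lemma inv_comp_hom : θ.inv ≫ P.hom = Spec.map (CommRingCat.ofHom (algebraMap A B)) := by
  rw [← hθ, Iso.inv_hom_id_assoc]

include hθ in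
lemma endo_algebraMap (α : P ⟶ P) : (endo θ α).comp (algebraMap A B) = algebraMap A B := by
  have h : Spec.map (CommRingCat.ofHom ((endo θ α).comp (algebraMap A B))) =
      Spec.map (CommRingCat.ofHom (algebraMap A B)) := by
    rw [CommRingCat.ofHom_comp, Spec.map_comp, specMap_endo, Category.assoc, Category.assoc, hθ]
    have hw : α.left ≫ P.hom = P.hom := MorphismProperty.Over.w α
    rw [hw, inv_comp_hom θ hθ]
  exact congrArg CommRingCat.Hom.hom (Spec.map_injective h)

section Points

variable {Ω : Type u} [Field Ω]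

/-- the geometric point of the cover attached to a ring homomorphism -/
noncomputable def pt (χ : B →+* Ω) : Spec (CommRingCat.of Ω) ⟶ P.left :=
  Spec.map (CommRingCat.ofHom χ) ≫ θ.inv

include hθ in
lemma pt_comp_hom (χ : B →+* Ω) :
    pt θ χ ≫ P.hom = Spec.map (CommRingCat.ofHom (χ.comp (algebraMap A B))) := by
  rw [pt, Category.assoc, inv_comp_hom θ hθ, CommRingCat.ofHom_comp, Spec.map_comp]

lemma pt_comp_left (χ : B →+* Ω) (α : P ⟶ P) : pt θ χ ≫ α.left = pt θ (χ.comp (endo θ α)) := by
  rw [pt, pt, CommRingCat.ofHom_comp, Spec.map_comp, specMap_endo]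
  simp

lemma pt_injective {χ χ' : B →+* Ω} (h : pt θ χ = pt θ χ') : χ = χ' := by
  unfold pt at h
  have h1 := (cancel_mono θ.inv).mp h
  exact congrArg CommRingCat.Hom.hom (Spec.map_injective h1)

end Points

end Endo

lemma fiber_map_val {X : Scheme.{u}} {Ω : Type u} [Field Ω] (ξ : Spec (CommRingCat.of Ω) ⟶ X)
    {Y Y' : FEt.Cat X} (φ : Y ⟶ Y') (s : FEt.fiberObj ξ Y) :
    ((FEt.fiber ξ).map φ s).1 = s.1 ≫ φ.left := rfl

/-- A principal `G`-cover of `Spec A` (`G` commutative) is the spectrum of a finite étale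
`A`-algebra with an action of `G` which is free and transitive on geometric points. -/
theorem bridge (A : Type u) [CommRing A] (G : Type v) [CommGroup G]
    (P : FEt.Cat (Spec (CommRingCat.of A))) (ρ : G →* Aut P) (hP : SGA1t.IsPrincipal G P ρ) :
    ∃ (B : Type u) (_ : CommRing B) (_ : Algebra A B) (_ : Module.Finite A B)
      (_ : Algebra.Etale A B) (_ : MulSemiringAction G B) (_ : SMulCommClass G A B)
      (θ : P.left ≅ Spec (CommRingCat.of B)),
      θ.hom ≫ Spec.map (CommRingCat.ofHom (algebraMap A B)) = P.hom ∧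
      (∀ g : G, (ρ g).hom.left ≫ θ.hom =
        θ.hom ≫ Spec.map (CommRingCat.ofHom (MulSemiringAction.toRingHom G B g))) ∧
      Function.Surjective (PrimeSpectrum.comap (algebraMap A B)) ∧
      FreeOnPoints B G ∧ TransOnPoints A B G := by
  obtain ⟨B, _, _, hfin, het, θ, hθ⟩ := exists_iso_Spec A P
  have hmul : ∀ g h : G, endo θ (ρ (g * h)).hom = (endo θ (ρ g).hom).comp (endo θ (ρ h).hom) := by
    intro g h
    rw [mul_comm g h, map_mul, Aut.Aut_mul_def]
    exact endo_comp θ _ _
  have hone : endo θ (ρ 1).hom = RingHom.id B := by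
    rw [map_one]
    exact endo_id θ
  letI act : MulSemiringAction G B :=
    { smul := fun g b => endo θ (ρ g).hom b
      one_smul := fun b => by
        change endo θ (ρ 1).hom b = b
        rw [hone]
        rfl
      mul_smul := fun g h b => by
        change endo θ (ρ (g * h)).hom b = endo θ (ρ g).hom (endo θ (ρ h).hom b)
        rw [hmul]
        rfl
      smul_zero := fun g => map_zero (endo θ (ρ g).hom)
      smul_add := fun g x y => map_add (endo θ (ρ g).hom) x y
      smul_one := fun g => map_one (endo θ (ρ g).hom)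
      smul_mul := fun g x y => map_mul (endo θ (ρ g).hom) x y }
  have hact : ∀ (g : G) (b : B), g • b = endo θ (ρ g).hom b := fun _ _ => rfl
  have hcomm : SMulCommClass G A B := ⟨fun g a b => by
    rw [hact, hact, Algebra.smul_def, Algebra.smul_def, map_mul]
    congr 1
    exact DFunLike.congr_fun (endo_algebraMap θ hθ (ρ g).hom) a⟩
  have htoRing : ∀ g : G, MulSemiringAction.toRingHom G B g = endo θ (ρ g).hom :=
    fun g => RingHom.ext fun b => rfl
  refine ⟨B, inferInstance, inferInstance, hfin, het, act, hcomm, θ, hθ, ?_, ?_, ?_, ?_⟩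
  · intro g
    rw [htoRing, specMap_endo, Iso.hom_inv_id_assoc]
  · intro x
    obtain ⟨y, hy⟩ := hP.1 x
    refine ⟨θ.hom.base y, ?_⟩
    rw [← hy, ← hθ]
    rfl
  · intro Ω _ _ χ g hg
    have hχ : χ.comp (endo θ (ρ g).hom) = χ := RingHom.ext fun b => hg b
    let ξ := Spec.map (CommRingCat.ofHom (χ.comp (algebraMap A B)))
    let s : FEt.fiberObj ξ P := ⟨pt θ χ, pt_comp_hom θ hθ χ⟩
    obtain ⟨g0, -, huniq⟩ := hP.2 Ω ξ s s
    have h1 : g = g0 := by
      apply huniq
      apply Subtype.ext
      rw [fiber_map_val]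
      change pt θ χ ≫ (ρ g).hom.left = pt θ χ
      rw [pt_comp_left, hχ]
    have h2 : (1 : G) = g0 := by
      apply huniq
      apply Subtype.ext
      rw [fiber_map_val]
      change pt θ χ ≫ (ρ 1).hom.left = pt θ χ
      rw [pt_comp_left, hone]
      rfl
    rw [h1, ← h2]
  · intro Ω _ _ χ χ' hAA
    let ξ := Spec.map (CommRingCat.ofHom (χ.comp (algebraMap A B)))
    let s : FEt.fiberObj ξ P := ⟨pt θ χ, pt_comp_hom θ hθ χ⟩
    let t : FEt.fiberObj ξ P := ⟨pt θ χ', by rw [pt_comp_hom θ hθ χ', ← hAA]⟩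
    obtain ⟨g, hg, -⟩ := hP.2 Ω ξ s t
    refine ⟨g, fun b => ?_⟩
    have h1 := congrArg Subtype.val hg
    rw [fiber_map_val] at h1
    change pt θ χ ≫ (ρ g).hom.left = pt θ χ' at h1
    rw [pt_comp_left] at h1
    have h2 := pt_injective θ h1
    rw [← h2]
    rfl

end Groth.Agent.H68.AS
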