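import Mathlib

/-!
# Artin–Schreier: pure algebra

`B` a ring of characteristic `p`, `σ` an automorphism of order dividing `p`.
* additive Hilbert 90: from an element of trace one we get `t` with `σ t = t + 1`;
* Vandermonde: if `σ t = t + 1` and `A = B^σ`, then `B = A[T]/(T^p - T - a)`.
-/

set_option autoImplicit false

open Polynomial

namespace Groth.Agent.H68.AS

section Hilbert90

variable {B : Type*} [CommRing B] (p : ℕ) [CharP B p]

/-- additive Hilbert 90 -/
theorem exists_shift (σ : B →+* B) (hσ : ∀ b, σ^[p] b = b) (c : B)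
    (hc : ∑ i ∈ Finset.range p, σ^[i] c = 1) : ∃ t : B, σ t = t + 1 := by
  refine ⟨-∑ i ∈ Finset.range p, (i : B) * σ^[i] c, ?_⟩
  rw [map_neg, map_sum]
  have h1 : ∀ i ∈ Finset.range p, σ ((i : B) * σ^[i] c) =
      ((i + 1 : ℕ) : B) * σ^[i + 1] c - σ^[i + 1] c := by
    intro i _
    rw [map_mul, map_natCast, Function.iterate_succ_apply']
    push_cast
    ring
  rw [Finset.sum_congr rfl h1, Finset.sum_sub_distrib]
  have h2 : ∑ i ∈ Finset.range p, ((i + 1 : ℕ) : B) * σ^[i + 1] c =
      ∑ i ∈ Finset.range p, (i : B) * σ^[i] c := by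
    have e1 := Finset.sum_range_succ' (fun i : ℕ => (i : B) * σ^[i] c) p
    have e2 := Finset.sum_range_succ (fun i : ℕ => (i : B) * σ^[i] c) p
    simp only [Nat.cast_zero, zero_mul, add_zero] at e1
    rw [e1] at e2
    rw [e2, CharP.cast_eq_zero B p, zero_mul, add_zero]
  have h3 : ∑ i ∈ Finset.range p, σ^[i + 1] c = 1 := by
    have e1 := Finset.sum_range_succ' (fun i : ℕ => σ^[i] c) p
    have e2 := Finset.sum_range_succ (fun i : ℕ => σ^[i] c) p
    rw [e1] at e2
    rw [hσ c] at e2
    simp only [Function.iterate_zero, id_eq] at e2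
    have := add_right_cancel e2
    rw [this, hc]
  rw [h2, h3]
  ring

end Hilbert90

section Vandermonde

variable {A B : Type*} [CommRing A] [CommRing B] [Algebra A B] (p : ℕ) [hp : Fact p.Prime]
  [CharP B p]

include hp in
lemma isUnit_natCast_of_lt {m : ℕ} (h0 : 0 < m) (hm : m < p) : IsUnit ((m : ℕ) : B) := by
  have h : IsUnit ((m : ℕ) : ZMod p) := by
    rw [isUnit_iff_ne_zero, Ne, ZMod.natCast_eq_zero_iff]
    exact Nat.not_dvd_of_pos_of_lt h0 hm
  have := h.map (ZMod.castHom (dvd_refl p) B)
  rwa [map_natCast] at this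

/-- the Vandermonde matrix of `t, t+1, …, t+(p-1)` -/
noncomputable abbrev vdm (t : B) : Matrix (Fin p) (Fin p) B :=
  Matrix.vandermonde (fun i : Fin p => t + ((i : ℕ) : B))

include hp in
lemma isUnit_vdm (t : B) : IsUnit (vdm p t) := by
  rw [Matrix.isUnit_iff_isUnit_det, Matrix.det_vandermonde]
  refine Finset.prod_induction _ IsUnit (fun _ _ => IsUnit.mul) isUnit_one ?_
  intro i _
  refine Finset.prod_induction _ IsUnit (fun _ _ => IsUnit.mul) isUnit_one ?_
  intro j hj
  have hij : i < j := Finset.mem_Ioi.mp hj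
  have hij' : (i : ℕ) < (j : ℕ) := hij
  have : t + ((j : ℕ) : B) - (t + ((i : ℕ) : B)) = (((j : ℕ) - (i : ℕ) : ℕ) : B) := by
    rw [Nat.cast_sub hij'.le]
    ring
  rw [this]
  exact isUnit_natCast_of_lt p (Nat.sub_pos_of_lt hij') (lt_of_le_of_lt (Nat.sub_le _ _) j.2)

lemma vdm_mulVec_apply (t : B) (c : Fin p → B) (i : Fin p) :
    (vdm p t).mulVec c i = ∑ k : Fin p, (t + ((i : ℕ) : B)) ^ (k : ℕ) * c k := by
  simp [Matrix.mulVec, dotProduct, Matrix.vandermonde_apply]

variable (σ : B →ₐ[A] B) (t : B)

omit hp [CharP B p] in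
lemma iterate_shift (ht : σ t = t + 1) (n : ℕ) : σ^[n] t = t + (n : B) := by
  induction n with
  | zero => simp
  | succ n ih =>
    rw [Function.iterate_succ_apply', ih, map_add, ht, map_natCast]
    push_cast
    ring

omit hp [CharP B p] in
lemma aeval_iterate (q : A[X]) (n : ℕ) (x : B) : aeval (σ^[n] x) q = σ^[n] (aeval x q) := by
  induction n with
  | zero => rfl
  | succ n ih =>
    rw [Function.iterate_succ_apply', Function.iterate_succ_apply', ← ih]
    exact Polynomial.aeval_algHom_apply σ _ q

omit hp [CharP B p] in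
lemma aeval_eq_sum_fin (q : A[X]) (hq : q.natDegree < p) (x : B) :
    aeval x q = ∑ k : Fin p, x ^ (k : ℕ) * algebraMap A B (q.coeff k) := by
  rw [Polynomial.aeval_eq_sum_range' hq, Finset.sum_range]
  refine Finset.sum_congr rfl fun k _ => ?_
  rw [Algebra.smul_def, mul_comm]

include hp in
/-- a polynomial of degree `< p` over `A` vanishing at `t` vanishes -/
lemma eq_zero_of_aeval_eq_zero (hinj : Function.Injective (algebraMap A B)) (ht : σ t = t + 1)
    (q : A[X]) (hq : q.natDegree < p) (h0 : aeval t q = 0) : q = 0 := by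
  have h1 : ∀ n : ℕ, aeval (t + (n : B)) q = 0 := by
    intro n
    rw [← iterate_shift σ t ht n, aeval_iterate, h0]
    exact Function.iterate_fixed (map_zero σ) n
  have h2 : (vdm p t).mulVec (fun k : Fin p => algebraMap A B (q.coeff k)) = 0 := by
    funext i
    rw [vdm_mulVec_apply, ← aeval_eq_sum_fin p q hq, h1, Pi.zero_apply]
  have h3 := Matrix.mulVec_injective_of_isUnit (isUnit_vdm p t)
    (h2.trans (Matrix.mulVec_zero _).symm)
  ext k
  rw [coeff_zero]
  by_cases hk : k < p
  · have := congrFun h3 ⟨k, hk⟩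
    simp only [Pi.zero_apply] at this
    exact hinj (this.trans (map_zero _).symm)
  · exact coeff_eq_zero_of_natDegree_lt (lt_of_lt_of_le hq (not_lt.mp hk))

/-- the Artin–Schreier polynomial -/
noncomputable abbrev asPoly (a : A) : A[X] := X ^ p - X - C a

omit [Algebra A B] [CharP B p] in
include hp in
lemma asPoly_monic (a : A) : (asPoly p a).Monic := by
  nontriviality A
  have : asPoly p a = X ^ p - (X + C a) := by
    unfold asPoly
    ring
  rw [this]
  apply monic_X_pow_sub
  rw [degree_X_add_C]
  exact_mod_cast hp.out.one_lt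

omit [Algebra A B] [CharP B p] in
include hp in
lemma asPoly_natDegree [Nontrivial A] (a : A) : (asPoly p a).natDegree = p := by
  have : asPoly p a = X ^ p - (X + C a) := by
    unfold asPoly
    ring
  rw [this, natDegree_sub_eq_left_of_natDegree_lt, natDegree_X_pow]
  rw [natDegree_X_add_C, natDegree_X_pow]
  exact hp.out.one_lt

include hp in
theorem ker_aeval (hinj : Function.Injective (algebraMap A B)) (ht : σ t = t + 1) (a : A)
    (ha : algebraMap A B a = t ^ p - t) :
    RingHom.ker (aeval t : A[X] →ₐ[A] B) = Ideal.span {asPoly p a} := by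
  have : Nontrivial B := CharP.nontrivial_of_char_ne_one (R := B) (v := p) hp.out.ne_one
  have : Nontrivial A := (algebraMap A B).domain_nontrivial
  have hf0 : aeval t (asPoly p a) = 0 := by
    simp only [asPoly, map_sub, map_pow, aeval_X, aeval_C, ha]
    ring
  have hmon := asPoly_monic p a
  apply le_antisymm
  · intro q hq
    rw [RingHom.mem_ker] at hq
    have hr : aeval t (q %ₘ asPoly p a) = 0 := by
      have := modByMonic_add_div q (asPoly p a)
      rw [eq_sub_of_add_eq this, map_sub, map_mul, hf0, zero_mul, sub_zero]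
      exact hq
    have hdeg : (q %ₘ asPoly p a).natDegree < p := by
      have hne : asPoly p a ≠ 1 := by
        intro h1
        have := asPoly_natDegree p a
        rw [h1, natDegree_one] at this
        exact hp.out.ne_zero this.symm
      have := natDegree_modByMonic_lt q hmon hne
      rwa [asPoly_natDegree] at this
    have := eq_zero_of_aeval_eq_zero p σ t hinj ht _ hdeg hr
    rw [Ideal.mem_span_singleton]
    exact (modByMonic_eq_zero_iff_dvd hmon).mp this
  · rw [Ideal.span_le, Set.singleton_subset_iff]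
    exact hf0

omit hp [CharP B p] in
lemma iterate_mod (hσp : ∀ b, σ^[p] b = b) (n : ℕ) (b : B) : σ^[n % p] b = σ^[n] b := by
  have hid : (σ : B → B)^[p] = id := funext hσp
  conv_rhs => rw [← Nat.mod_add_div n p, Function.iterate_add_apply, Function.iterate_mul, hid,
    Function.iterate_id]
  rfl

include hp in
theorem aeval_surjective (hσp : ∀ b, σ^[p] b = b) (ht : σ t = t + 1)
    (hinv : ∀ b, σ b = b → b ∈ Set.range (algebraMap A B)) :
    Function.Surjective (aeval t : A[X] →ₐ[A] B) := by
  intro b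
  obtain ⟨u, hu⟩ := isUnit_vdm p t
  let c : Fin p → B := (↑u⁻¹ : Matrix (Fin p) (Fin p) B).mulVec (fun i : Fin p => σ^[(i : ℕ)] b)
  have hc : (vdm p t).mulVec c = fun i : Fin p => σ^[(i : ℕ)] b := by
    rw [Matrix.mulVec_mulVec, ← hu, Units.mul_inv, Matrix.one_mulVec]
  have hrow : ∀ n : ℕ, ∑ k : Fin p, (t + (n : B)) ^ (k : ℕ) * c k = σ^[n] b := by
    intro n
    have hlt : n % p < p := Nat.mod_lt _ hp.out.pos
    have h := congrFun hc ⟨n % p, hlt⟩
    rw [vdm_mulVec_apply] at h
    simp only at h
    rw [← CharP.cast_eq_mod B p n, iterate_mod p σ hσp] at h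
    exact h
  have hrow' : ∀ n : ℕ, ∑ k : Fin p, (t + (n : B)) ^ (k : ℕ) * σ (c k) = σ^[n] b := by
    intro n
    have h := congrArg σ (hrow (n + p - 1))
    rw [map_sum, ← Function.iterate_succ_apply' σ] at h
    have e1 : (n + p - 1).succ = n + p := by
      have := hp.out.pos
      omega
    rw [e1] at h
    have e2 : σ^[n + p] b = σ^[n] b := by
      rw [← iterate_mod p σ hσp (n + p), Nat.add_mod_right, iterate_mod p σ hσp]
    rw [e2] at h
    rw [← h]
    refine Finset.sum_congr rfl fun k _ => ?_
    rw [map_mul, map_pow, map_add, ht, map_natCast]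
    congr 2
    have e3 : 1 + ((n + p - 1 : ℕ) : B) = ((n + p : ℕ) : B) := by
      rw [← e1]
      push_cast
      ring
    rw [add_assoc, e3]
    push_cast
    rw [CharP.cast_eq_zero B p, add_zero]
  have hfix : (fun k => σ (c k)) = c := by
    apply Matrix.mulVec_injective_of_isUnit (isUnit_vdm p t)
    rw [hc]
    funext i
    rw [vdm_mulVec_apply]
    exact hrow' i
  choose α hα using fun k : Fin p => hinv (c k) (congrFun hfix k)
  refine ⟨∑ k : Fin p, C (α k) * X ^ (k : ℕ), ?_⟩
  have h0 := hrow 0
  simp only [Nat.cast_zero, add_zero, Function.iterate_zero, id_eq] at h0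
  rw [← h0, map_sum]
  refine Finset.sum_congr rfl fun k _ => ?_
  rw [map_mul, aeval_C, map_pow, aeval_X, hα, mul_comm]

end Vandermonde

end Groth.Agent.H68.AS
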