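import Mathlib

/-!
# Kummer: the Vandermonde argument

`G` a finite group of order `n` acting on the `A`-algebra `B` with `B^G = A`, and `u : B` such
that the Vandermonde matrix of the conjugates of `u` is invertible. Then `B = A[T]/(T^n - u^n)`.
-/

set_option autoImplicit false

open Polynomial

namespace Groth.Agent.H68.AS

section

variable {A B : Type*} [CommRing A] [CommRing B] [Algebra A B] {G : Type*} [Group G]
  [MulSemiringAction G B] [SMulCommClass G A B] {n : ℕ} (e : Fin n ≃ G) (u : B)

lemma aeval_smul (g : G) (q : A[X]) (x : B) : aeval (g • x) q = g • aeval x q :=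
  Polynomial.aeval_algHom_apply (MulSemiringAction.toAlgHom A B g) x q

/-- the Vandermonde matrix of the conjugates of `u` -/
noncomputable abbrev vdmK : Matrix (Fin n) (Fin n) B :=
  Matrix.vandermonde (fun i : Fin n => e i • u)

lemma vdmK_mulVec_apply (c : Fin n → B) (i : Fin n) :
    (vdmK e u).mulVec c i = ∑ k : Fin n, (e i • u) ^ (k : ℕ) * c k := by
  simp [Matrix.mulVec, dotProduct, Matrix.vandermonde_apply]

lemma aeval_eq_sum_fin' (q : A[X]) (hq : q.natDegree < n) (x : B) :
    aeval x q = ∑ k : Fin n, x ^ (k : ℕ) * algebraMap A B (q.coeff k) := by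
  rw [Polynomial.aeval_eq_sum_range' hq, Finset.sum_range]
  refine Finset.sum_congr rfl fun k _ => ?_
  rw [Algebra.smul_def, mul_comm]

variable (hM : IsUnit (vdmK e u))

include hM in
lemma eq_zero_of_aeval_eq_zero' (hinj : Function.Injective (algebraMap A B))
    (q : A[X]) (hq : q.natDegree < n) (h0 : aeval u q = 0) : q = 0 := by
  have h2 : (vdmK e u).mulVec (fun k : Fin n => algebraMap A B (q.coeff k)) = 0 := by
    funext i
    rw [vdmK_mulVec_apply, ← aeval_eq_sum_fin' q hq, aeval_smul, h0, smul_zero, Pi.zero_apply]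
  have h3 := Matrix.mulVec_injective_of_isUnit hM (h2.trans (Matrix.mulVec_zero _).symm)
  ext k
  rw [coeff_zero]
  by_cases hk : k < n
  · have := congrFun h3 ⟨k, hk⟩
    simp only [Pi.zero_apply] at this
    exact hinj (this.trans (map_zero _).symm)
  · exact coeff_eq_zero_of_natDegree_lt (lt_of_lt_of_le hq (not_lt.mp hk))

include hM in
theorem ker_aeval' (hinj : Function.Injective (algebraMap A B)) (hn : 0 < n) (a : A)
    (ha : algebraMap A B a = u ^ n) :
    RingHom.ker (aeval u : A[X] →ₐ[A] B) = Ideal.span {(X ^ n - C a : A[X])} := by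
  rcases subsingleton_or_nontrivial A with hA | hA
  · have : Subsingleton A[X] := inferInstance
    apply le_antisymm
    · intro q _
      rw [Subsingleton.elim q 0]
      exact zero_mem _
    · intro q _
      rw [Subsingleton.elim q 0]
      exact zero_mem _
  have hf0 : aeval u (X ^ n - C a : A[X]) = 0 := by
    simp only [map_sub, map_pow, aeval_X, aeval_C, ha, sub_self]
  have hmon : (X ^ n - C a : A[X]).Monic := monic_X_pow_sub_C a hn.ne'
  have hdegf : (X ^ n - C a : A[X]).natDegree = n := natDegree_X_pow_sub_C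
  apply le_antisymm
  · intro q hq
    rw [RingHom.mem_ker] at hq
    have hr : aeval u (q %ₘ (X ^ n - C a)) = 0 := by
      have := modByMonic_add_div q (X ^ n - C a : A[X])
      rw [eq_sub_of_add_eq this, map_sub, map_mul, hf0, zero_mul, sub_zero]
      exact hq
    have hdeg : (q %ₘ (X ^ n - C a)).natDegree < n := by
      have hne : (X ^ n - C a : A[X]) ≠ 1 := by
        intro h1
        rw [h1, natDegree_one] at hdegf
        omega
      have := natDegree_modByMonic_lt q hmon hne
      rwa [hdegf] at this
    have := eq_zero_of_aeval_eq_zero' e u hM hinj _ hdeg hr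
    rw [Ideal.mem_span_singleton]
    exact (modByMonic_eq_zero_iff_dvd hmon).mp this
  · rw [Ideal.span_le, Set.singleton_subset_iff]
    exact hf0

include hM in
theorem aeval_surjective'
    (hinv : ∀ b : B, (∀ g : G, g • b = b) → b ∈ Set.range (algebraMap A B)) :
    Function.Surjective (aeval u : A[X] →ₐ[A] B) := by
  intro b
  obtain ⟨U, hU⟩ := hM
  let c : Fin n → B := (↑U⁻¹ : Matrix (Fin n) (Fin n) B).mulVec (fun i : Fin n => e i • b)
  have hc : (vdmK e u).mulVec c = fun i : Fin n => e i • b := by
    rw [Matrix.mulVec_mulVec, ← hU, Units.mul_inv, Matrix.one_mulVec]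
  have hrow : ∀ g : G, ∑ k : Fin n, (g • u) ^ (k : ℕ) * c k = g • b := by
    intro g
    have h := congrFun hc (e.symm g)
    rw [vdmK_mulVec_apply, Equiv.apply_symm_apply] at h
    exact h
  have hfix : ∀ h : G, (fun k => h • c k) = c := by
    intro h
    apply Matrix.mulVec_injective_of_isUnit (hU ▸ U.isUnit : IsUnit (vdmK e u))
    rw [hc]
    funext i
    rw [vdmK_mulVec_apply]
    have h1 := congrArg (fun x => h • x) (hrow (h⁻¹ * e i))
    simp only [Finset.smul_sum, smul_mul', smul_pow', smul_smul, mul_inv_cancel_left] at h1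
    exact h1
  choose α hα using fun k : Fin n => hinv (c k) (fun g => congrFun (hfix g) k)
  refine ⟨∑ k : Fin n, C (α k) * X ^ (k : ℕ), ?_⟩
  have h0 := hrow 1
  rw [one_smul, one_smul] at h0
  rw [← h0, map_sum]
  refine Finset.sum_congr rfl fun k _ => ?_
  rw [map_mul, aeval_C, map_pow, aeval_X, hα, mul_comm]

end

end Groth.Agent.H68.AS
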