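import Mathlib

/-!
# Roots of unity in a local ring in which `n` is invertible
-/

set_option autoImplicit false

namespace Groth.Agent.H68.AS

open IsLocalRing

variable {A : Type*} [CommRing A] [IsLocalRing A] {n : ℕ}

/-- an `n`-th root of unity congruent to `1` modulo the maximal ideal is `1` (`n` invertible) -/
lemma eq_one_of_sub_one_mem (hn : IsUnit ((n : ℕ) : A)) {ζ : A} (hζ : ζ ^ n = 1)
    (hm : ζ - 1 ∈ maximalIdeal A) : ζ = 1 := by
  have h1 : (ζ - 1) * ∑ i ∈ Finset.range n, ζ ^ i = 0 := by rw [mul_geom_sum, hζ, sub_self]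
  have h2 : IsUnit (∑ i ∈ Finset.range n, ζ ^ i) := by
    have hsum : ∑ i ∈ Finset.range n, ζ ^ i = (n : A) + ∑ i ∈ Finset.range n, (ζ ^ i - 1) := by
      rw [Finset.sum_sub_distrib]
      simp
    have hmem : ∑ i ∈ Finset.range n, (ζ ^ i - 1) ∈ maximalIdeal A := by
      refine Ideal.sum_mem _ fun i _ => ?_
      obtain ⟨c, hc⟩ := sub_one_dvd_pow_sub_one ζ i
      rw [hc]
      exact Ideal.mul_mem_right _ _ hm
    by_contra hnu
    have h3 : ∑ i ∈ Finset.range n, ζ ^ i ∈ maximalIdeal A := (mem_maximalIdeal _).mpr hnu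
    have h4 : (n : A) ∈ maximalIdeal A := by
      have : (n : A) = ∑ i ∈ Finset.range n, ζ ^ i - ∑ i ∈ Finset.range n, (ζ ^ i - 1) := by
        rw [hsum]
        ring
      rw [this]
      exact Ideal.sub_mem _ h3 hmem
    exact (mem_maximalIdeal _).mp h4 hn
  exact sub_eq_zero.mp (h2.mul_left_eq_zero.mp h1)

/-- a root of unity different from `1` is not congruent to `1` -/
lemma isUnit_sub_of_ne (hn : IsUnit ((n : ℕ) : A)) {ζ ξ : rootsOfUnity n A} (h : ζ ≠ ξ) :
    IsUnit ((((ζ : Aˣ) : A)) - ((ξ : Aˣ) : A)) := by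
  by_contra hnu
  apply h
  have hmem : (((ζ : Aˣ) : A)) - ((ξ : Aˣ) : A) ∈ maximalIdeal A := (mem_maximalIdeal _).mpr hnu
  have h1 : ((((ζ * ξ⁻¹ : rootsOfUnity n A) : Aˣ) : A)) - 1 ∈ maximalIdeal A := by
    have : ((((ζ * ξ⁻¹ : rootsOfUnity n A) : Aˣ) : A)) - 1 =
        ((((ζ : Aˣ) : A)) - ((ξ : Aˣ) : A)) * (((ξ⁻¹ : rootsOfUnity n A) : Aˣ) : A) := by
      push_cast
      rw [sub_mul, Units.mul_inv]
    rw [this]
    exact Ideal.mul_mem_right _ _ hmem
  have h2 : ((((ζ * ξ⁻¹ : rootsOfUnity n A) : Aˣ) : A)) ^ n = 1 := by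
    have := (ζ * ξ⁻¹).2
    rw [mem_rootsOfUnity'] at this
    exact this
  have h3 := eq_one_of_sub_one_mem hn h2 h1
  have h4 : ζ * ξ⁻¹ = 1 := by
    apply Subtype.ext
    apply Units.ext
    exact h3
  exact mul_inv_eq_one.mp h4

lemma restrict_injective (hn : IsUnit ((n : ℕ) : A)) :
    Function.Injective (restrictRootsOfUnity (residue A) n) := by
  rw [injective_iff_map_eq_one]
  intro ζ hζ
  have h1 : residue A ((ζ : Aˣ) : A) = 1 := by
    have := congrArg (fun x : rootsOfUnity n (ResidueField A) => ((x : (ResidueField A)ˣ) :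
      ResidueField A)) hζ
    simpa using this
  have h2 : ((ζ : Aˣ) : A) - 1 ∈ maximalIdeal A := by
    rw [← residue_eq_zero_iff, map_sub, h1, map_one, sub_self]
  have h3 : ((ζ : Aˣ) : A) ^ n = 1 := (mem_rootsOfUnity' _ _).mp ζ.2
  apply Subtype.ext
  apply Units.ext
  exact eq_one_of_sub_one_mem hn h3 h2

lemma finite_rootsOfUnity (hn1 : 1 ≤ n) (hn : IsUnit ((n : ℕ) : A)) :
    Finite (rootsOfUnity n A) := by
  haveI : NeZero n := ⟨by omega⟩
  exact Finite.of_injective _ (restrict_injective hn)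

lemma card_rootsOfUnity_eq (hn1 : 1 ≤ n) (hn : IsUnit ((n : ℕ) : A)) {ζ₀ : A}
    (hζ₀ : IsPrimitiveRoot ζ₀ n) : Nat.card (rootsOfUnity n A) = n := by
  haveI : NeZero n := ⟨by omega⟩
  haveI := finite_rootsOfUnity hn1 hn
  apply le_antisymm
  · calc Nat.card (rootsOfUnity n A) ≤ Nat.card (rootsOfUnity n (ResidueField A)) :=
          Nat.card_le_card_of_injective _ (restrict_injective hn)
      _ ≤ n := card_rootsOfUnity (ResidueField A) n
  · let u₀ : Aˣ := (hζ₀.isUnit (by omega)).unit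
    have hu₀ : ∀ i : ℕ, u₀ ^ i ∈ rootsOfUnity n A := by
      intro i
      rw [mem_rootsOfUnity']
      push_cast
      change (ζ₀ ^ i) ^ n = 1
      rw [← pow_mul, mul_comm, pow_mul, hζ₀.pow_eq_one, one_pow]
    let f : Fin n → rootsOfUnity n A := fun i => ⟨u₀ ^ (i : ℕ), hu₀ i⟩
    have hf : Function.Injective f := by
      intro i j hij
      have h1 : ζ₀ ^ (i : ℕ) = ζ₀ ^ (j : ℕ) := by
        have := congrArg (fun x : rootsOfUnity n A => ((x : Aˣ) : A)) hij
        simpa [f, u₀] using this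
      exact Fin.ext (hζ₀.pow_inj i.2 j.2 h1)
    have := Nat.card_le_card_of_injective f hf
    simpa using this

end Groth.Agent.H68.AS
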