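import Mathlib
import Groth.Prelude.Def_SGA1t
import Groth.Agent.H68.AS.Core
import Groth.Agent.H68.AS.Torsor
import Groth.Agent.H68.AS.Bridge

/-!
# Artin–Schreier theory over an affine base
-/

set_option autoImplicit false

open CategoryTheory CategoryTheory.Limits AlgebraicGeometry Polynomial

namespace Groth.Agent.H68.AS

universe u

section RingLevel

variable (A B : Type u) [CommRing A] [CommRing B] [Algebra A B] (p : ℕ) [hp : Fact p.Prime]

lemma sum_zmod_eq_sum_range {M : Type*} [AddCommMonoid M] (F : ZMod p → M) :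
    ∑ j : ZMod p, F j = ∑ i ∈ Finset.range p, F (i : ZMod p) := by
  symm
  refine Finset.sum_nbij' (fun n : ℕ => (n : ZMod p)) ZMod.val ?_ ?_ ?_ ?_ ?_
  · intro a _
    exact Finset.mem_univ _
  · intro b _
    exact Finset.mem_range.mpr (ZMod.val_lt b)
  · intro a ha
    exact ZMod.val_natCast_of_lt (Finset.mem_range.mp ha)
  · intro b _
    exact ZMod.natCast_zmod_val b
  · intro a _
    rfl

variable [MulSemiringAction (Multiplicative (ZMod p)) B]
  [SMulCommClass (Multiplicative (ZMod p)) A B]

/-- the generator of `ℤ/p` acting on `B` -/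
noncomputable abbrev gen : B →ₐ[A] B :=
  MulSemiringAction.toAlgHom A B (Multiplicative.ofAdd (1 : ZMod p))

lemma gen_iterate (n : ℕ) (b : B) :
    (gen A B p)^[n] b = Multiplicative.ofAdd ((n : ℕ) : ZMod p) • b := by
  induction n with
  | zero =>
    simp only [Function.iterate_zero, id_eq, Nat.cast_zero, ofAdd_zero, one_smul]
  | succ n ih =>
    rw [Function.iterate_succ_apply', ih]
    change Multiplicative.ofAdd (1 : ZMod p) • (Multiplicative.ofAdd ((n : ℕ) : ZMod p) • b) = _
    rw [smul_smul, ← ofAdd_add]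
    congr 2
    push_cast
    ring

lemma gen_iterate_p (b : B) : (gen A B p)^[p] b = b := by
  rw [gen_iterate, ZMod.natCast_self, ofAdd_zero, one_smul]

lemma ofAdd_smul_eq (j : ZMod p) (b : B) :
    Multiplicative.ofAdd j • b = (gen A B p)^[j.val] b := by
  rw [gen_iterate, ZMod.natCast_zmod_val]

variable [CharP A p] [Algebra.Etale A B]

theorem ring_main (hsurj : Function.Surjective (PrimeSpectrum.comap (algebraMap A B)))
    (hfree : FreeOnPoints B (Multiplicative (ZMod p)))
    (htrans : TransOnPoints A B (Multiplicative (ZMod p))) :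
    ∃ (a : A) (φ : SGA1t.artinSchreier A p a ≃ₐ[A] B),
      ∀ (j : ZMod p) (x : SGA1t.artinSchreier A p a),
        Multiplicative.ofAdd j • φ x = φ (SGA1t.artinSchreierShift A p a j x) := by
  haveI : Module.FaithfullyFlat A B := Module.FaithfullyFlat.of_comap_surjective hsurj
  have hinj : Function.Injective (algebraMap A B) := FaithfulSMul.algebraMap_injective A B
  haveI : CharP B p := charP_of_injective_algebraMap hinj p
  let σ := gen A B p
  -- trace one
  obtain ⟨c, hc⟩ := exists_trace_one B (Multiplicative (ZMod p)) hfree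
  have hc' : ∑ i ∈ Finset.range p, σ^[i] c = 1 := by
    rw [← hc]
    have h1 : ∑ g : Multiplicative (ZMod p), g • c =
        ∑ j : ZMod p, Multiplicative.ofAdd j • c :=
      Fintype.sum_equiv Multiplicative.toAdd _ _ (fun g => rfl)
    rw [h1, sum_zmod_eq_sum_range]
    refine Finset.sum_congr rfl fun i _ => ?_
    exact gen_iterate A B p i c
  obtain ⟨t, ht⟩ := exists_shift p (σ : B →+* B) (gen_iterate_p A B p) c hc'
  have ht' : σ t = t + 1 := ht
  -- invariants
  have hinv : ∀ b, σ b = b → b ∈ Set.range (algebraMap A B) := by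
    intro b hb
    apply invariant_mem_range A B (Multiplicative (ZMod p)) htrans
    intro g
    have : g = Multiplicative.ofAdd (Multiplicative.toAdd g) := rfl
    rw [this, ofAdd_smul_eq A B p]
    exact Function.iterate_fixed hb _
  obtain ⟨a, ha⟩ := hinv (t ^ p - t) (by
    rw [map_sub, map_pow, ht', add_pow_char, one_pow]
    ring)
  have hker := ker_aeval p σ t hinj ht' a ha
  have hsur := aeval_surjective p σ t (gen_iterate_p A B p) ht' hinv
  let φ : SGA1t.artinSchreier A p a ≃ₐ[A] B :=
    (Ideal.quotientEquivAlgOfEq A hker.symm).trans (Ideal.quotientKerAlgEquivOfSurjective hsur)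
  have hφ : ∀ q : A[X], φ (Ideal.Quotient.mk _ q) = aeval t q := fun q => rfl
  refine ⟨a, φ, ?_⟩
  intro j x
  let R1 : SGA1t.artinSchreier A p a →+* B :=
    (MulSemiringAction.toRingHom (Multiplicative (ZMod p)) B (Multiplicative.ofAdd j)).comp
      (φ : SGA1t.artinSchreier A p a →+* B)
  let R2 : SGA1t.artinSchreier A p a →+* B :=
    (φ : SGA1t.artinSchreier A p a →+* B).comp (SGA1t.artinSchreierShift A p a j)
  have hR : R1 = R2 := by
    apply Ideal.Quotient.ringHom_ext
    apply Polynomial.ringHom_ext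
    · intro r
      change Multiplicative.ofAdd j • φ (Ideal.Quotient.mk _ (C r)) =
        φ (SGA1t.artinSchreierShift A p a j (Ideal.Quotient.mk _ (C r)))
      have h2 : SGA1t.artinSchreierShift A p a j (Ideal.Quotient.mk _ (C r)) =
          Ideal.Quotient.mk _ (aeval (X + C ((ZMod.castHom (dvd_refl p) A) j)) (C r)) := rfl
      rw [h2, hφ, hφ, aeval_C, aeval_C, ← C_eq_algebraMap, aeval_C, smul_algebraMap]
    · change Multiplicative.ofAdd j • φ (Ideal.Quotient.mk _ X) =
        φ (SGA1t.artinSchreierShift A p a j (Ideal.Quotient.mk _ X))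
      have h2 : SGA1t.artinSchreierShift A p a j (Ideal.Quotient.mk _ X) =
          Ideal.Quotient.mk _ (aeval (X + C ((ZMod.castHom (dvd_refl p) A) j)) X) := rfl
      rw [h2, hφ, hφ, aeval_X, aeval_X, map_add, aeval_X, aeval_C, ofAdd_smul_eq A B p,
        iterate_shift σ t ht', ZMod.castHom_apply, ← ZMod.natCast_val, map_natCast]
  exact DFunLike.congr_fun hR x

end RingLevel

/-- the isomorphism of spectra attached to a ring isomorphism -/
noncomputable def specIso {R S : Type u} [CommRing R] [CommRing S] (e : R ≃+* S) :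
    Spec (CommRingCat.of S) ≅ Spec (CommRingCat.of R) where
  hom := Spec.map (CommRingCat.ofHom (e : R →+* S))
  inv := Spec.map (CommRingCat.ofHom (e.symm : S →+* R))
  hom_inv_id := by
    rw [← Spec.map_comp, ← CommRingCat.ofHom_comp]
    have : (e : R →+* S).comp (e.symm : S →+* R) = RingHom.id S := by
      ext x
      simp
    rw [this]
    exact Spec.map_id _
  inv_hom_id := by
    rw [← Spec.map_comp, ← CommRingCat.ofHom_comp]
    have : (e.symm : S →+* R).comp (e : R →+* S) = RingHom.id R := by
      ext x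
      simp
    rw [this]
    exact Spec.map_id _

/-- Artin–Schreier theory over an affine base of characteristic `p`. -/
theorem main (A : Type u) [CommRing A] (p : ℕ) [Fact p.Prime] [CharP A p]
    (P : FEt.Cat (Spec (CommRingCat.of A))) (ρ : Multiplicative (ZMod p) →* Aut P)
    (hP : SGA1t.IsPrincipal (Multiplicative (ZMod p)) P ρ) :
    ∃ (a : A) (e : P.left ≅ Spec (CommRingCat.of (SGA1t.artinSchreier A p a))),
      e.hom ≫ Spec.map (CommRingCat.ofHom (algebraMap A (SGA1t.artinSchreier A p a))) = P.hom ∧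
      ∀ j : ZMod p, (ρ (Multiplicative.ofAdd j)).hom.left ≫ e.hom =
        e.hom ≫ Spec.map (CommRingCat.ofHom (SGA1t.artinSchreierShift A p a j)) := by
  obtain ⟨B, _, _, hfin, het, act, hcomm, θ, hθ, hequiv, hsurj, hfree, htrans⟩ :=
    bridge A (Multiplicative (ZMod p)) P ρ hP
  obtain ⟨a, φ, hφ⟩ := ring_main A B p hsurj hfree htrans
  refine ⟨a, θ ≪≫ specIso φ.toRingEquiv, ?_, ?_⟩
  · rw [Iso.trans_hom, Category.assoc]
    change θ.hom ≫ Spec.map (CommRingCat.ofHom (φ.toRingEquiv : SGA1t.artinSchreier A p a →+* B)) ≫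
      Spec.map (CommRingCat.ofHom (algebraMap A (SGA1t.artinSchreier A p a))) = P.hom
    rw [← Spec.map_comp, ← CommRingCat.ofHom_comp, ← hθ]
    congr 3
    ext r
    exact φ.commutes r
  · intro j
    rw [Iso.trans_hom, ← Category.assoc, hequiv, Category.assoc, Category.assoc]
    change θ.hom ≫ Spec.map (CommRingCat.ofHom (MulSemiringAction.toRingHom _ B
        (Multiplicative.ofAdd j))) ≫
        Spec.map (CommRingCat.ofHom (φ.toRingEquiv : SGA1t.artinSchreier A p a →+* B)) =
      θ.hom ≫ Spec.map (CommRingCat.ofHom (φ.toRingEquiv : SGA1t.artinSchreier A p a →+* B)) ≫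
        Spec.map (CommRingCat.ofHom (SGA1t.artinSchreierShift A p a j))
    rw [← Spec.map_comp, ← Spec.map_comp, ← CommRingCat.ofHom_comp, ← CommRingCat.ofHom_comp]
    congr 3
    apply RingHom.ext
    intro x
    exact hφ j x

end Groth.Agent.H68.AS
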