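import Mathlib
import Groth.Prelude.Def_SGA1t
import Groth.Agent.H68.AS.Torsor
import Groth.Agent.H68.AS.Bridge
import Groth.Agent.H68.AS.KummerLocal
import Groth.Agent.H68.AS.KummerCore
import Groth.Agent.H68.AS.Main

/-!
# Kummer theory over a local ring
-/

set_option autoImplicit false

open CategoryTheory CategoryTheory.Limits AlgebraicGeometry IsLocalRing

namespace Groth.Agent.H68.AS

universe u

section Dedekind

variable (B : Type u) [CommRing B] {G : Type*} [Group G] [Fintype G] [MulSemiringAction G B]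

/-- Dedekind independence of the geometric points in an orbit of a free action -/
lemma exists_sum_ne_zero (hfree : FreeOnPoints B G) {Ω : Type u} [Field Ω] [IsAlgClosed Ω]
    (χ : B →+* Ω) (coef : G → Ω) (g₀ : G) (h0 : coef g₀ ≠ 0) :
    ∃ b : B, ∑ g : G, coef g * χ (g • b) ≠ 0 := by
  classical
  by_contra hall
  push_neg at hall
  let f : G → (B →* Ω) := fun g => ((χ.comp (MulSemiringAction.toRingHom G B g)) : B →* Ω)
  have hf : Function.Injective f := by
    intro g h hgh
    have h1 : ∀ b, χ (g • b) = χ (h • b) := fun b => DFunLike.congr_fun hgh b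
    have h2 : h * g⁻¹ = 1 := by
      apply hfree Ω χ
      intro b
      have := h1 (g⁻¹ • b)
      rw [smul_smul, smul_smul, mul_inv_cancel, one_smul] at this
      exact this.symm
    exact (mul_inv_eq_one.mp h2).symm
  have hli := (linearIndependent_monoidHom B Ω).comp f hf
  have := Fintype.linearIndependent_iff.mp hli coef (by
    funext b
    simp only [Function.comp_apply, Finset.sum_apply, Pi.smul_apply, smul_eq_mul, Pi.zero_apply]
    exact hall b) g₀
  exact h0 this

end Dedekind

section Resolvent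

variable (A B : Type u) [CommRing A] [CommRing B] [Algebra A B] (n : ℕ)
  (G : Type*) [CommGroup G] [MulSemiringAction G B] [SMulCommClass G A B]
  (ι : G ≃* rootsOfUnity n A)

/-- the value in `A` of a root of unity -/
def rv (g : G) : A := (((ι g : rootsOfUnity n A) : Aˣ) : A)

omit [CommRing B] [Algebra A B] [MulSemiringAction G B] [SMulCommClass G A B] in
lemma rv_mul (g h : G) : rv A n G ι (g * h) = rv A n G ι g * rv A n G ι h := by
  unfold rv
  rw [map_mul]
  push_cast
  rfl

omit [CommRing B] [Algebra A B] [MulSemiringAction G B] [SMulCommClass G A B] in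
lemma rv_one : rv A n G ι 1 = 1 := by
  unfold rv
  rw [map_one]
  rfl

omit [CommRing B] [Algebra A B] [MulSemiringAction G B] [SMulCommClass G A B] in
lemma rv_pow (g : G) : rv A n G ι g ^ n = 1 := (mem_rootsOfUnity' _ _).mp (ι g).2

omit [CommRing B] [Algebra A B] [MulSemiringAction G B] [SMulCommClass G A B] in
lemma isUnit_rv (g : G) : IsUnit (rv A n G ι g) := Units.isUnit _

variable [Fintype G]

/-- the Lagrange resolvent -/
noncomputable def resolvent (b : B) : B := ∑ g : G, rv A n G ι g⁻¹ • (g • b)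

lemma smul_resolvent (h : G) (b : B) :
    h • resolvent A B n G ι b = rv A n G ι h • resolvent A B n G ι b := by
  rw [resolvent, Finset.smul_sum, Finset.smul_sum]
  refine Fintype.sum_equiv (Equiv.mulLeft h) _ _ (fun g => ?_)
  rw [smul_comm h, smul_smul h g b, smul_smul (rv A n G ι h)]
  congr 1
  change _ = rv A n G ι h * rv A n G ι (h * g)⁻¹
  rw [← rv_mul]
  congr 1
  rw [mul_inv_rev, mul_comm, inv_mul_cancel_right]

end Resolvent

section MvTransfer

variable {A B : Type u} [CommRing A] [CommRing B] [Algebra A B] (n : ℕ) (u : B) (a : A)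

/-- evaluation of one-variable `MvPolynomial`s at `u` -/
noncomputable abbrev evU : MvPolynomial Unit A →ₐ[A] B := MvPolynomial.aeval (fun _ : Unit => u)

lemma evU_eq (q : MvPolynomial Unit A) :
    evU u q = Polynomial.aeval u (MvPolynomial.uniqueAlgEquiv A Unit q) := by
  have : (evU u : MvPolynomial Unit A →ₐ[A] B) =
      (Polynomial.aeval u : Polynomial A →ₐ[A] B).comp
        (MvPolynomial.uniqueAlgEquiv A Unit : MvPolynomial Unit A →ₐ[A] Polynomial A) := by
    apply MvPolynomial.algHom_ext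
    intro i
    simp
  rw [this]
  rfl

lemma evU_surjective (hsur : Function.Surjective (Polynomial.aeval u : Polynomial A →ₐ[A] B)) :
    Function.Surjective (evU u : MvPolynomial Unit A →ₐ[A] B) := by
  intro b
  obtain ⟨q, hq⟩ := hsur b
  refine ⟨(MvPolynomial.uniqueAlgEquiv A Unit).symm q, ?_⟩
  rw [evU_eq, AlgEquiv.apply_symm_apply, hq]

lemma evU_ker
    (hker : RingHom.ker (Polynomial.aeval u : Polynomial A →ₐ[A] B) =
      Ideal.span {(Polynomial.X ^ n - Polynomial.C a : Polynomial A)}) :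
    RingHom.ker (evU u : MvPolynomial Unit A →ₐ[A] B) =
      Ideal.span (Set.range fun i : Unit =>
        (MvPolynomial.X i : MvPolynomial Unit A) ^ n - MvPolynomial.C a) := by
  have hrange : (Set.range fun i : Unit =>
      (MvPolynomial.X i : MvPolynomial Unit A) ^ n - MvPolynomial.C a) =
      {(MvPolynomial.X () : MvPolynomial Unit A) ^ n - MvPolynomial.C a} := Set.range_unique
  rw [hrange]
  have hE : MvPolynomial.uniqueAlgEquiv A Unit
      ((MvPolynomial.X () : MvPolynomial Unit A) ^ n - MvPolynomial.C a) =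
      (Polynomial.X ^ n - Polynomial.C a : Polynomial A) := by
    simp
  ext q
  rw [RingHom.mem_ker, evU_eq, ← RingHom.mem_ker, hker, Ideal.mem_span_singleton,
    Ideal.mem_span_singleton, ← hE]
  exact map_dvd_iff (MvPolynomial.uniqueAlgEquiv A Unit)

end MvTransfer

section Main

variable (A B : Type u) [CommRing A] [CommRing B] [Algebra A B] (n : ℕ)
  (G : Type*) [CommGroup G] [MulSemiringAction G B] [SMulCommClass G A B]
  (ι : G ≃* rootsOfUnity n A)

theorem kummer_ring_main [IsLocalRing A] (hn1 : 1 ≤ n) (hn : IsUnit ((n : ℕ) : A)) (ζ₀ : A)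
    (hζ₀ : IsPrimitiveRoot ζ₀ n) [Module.Finite A B] [Algebra.Etale A B]
    (hsurj : Function.Surjective (PrimeSpectrum.comap (algebraMap A B)))
    (hfree : FreeOnPoints B G) (htrans : TransOnPoints A B G) :
    ∃ (a : Aˣ) (φ : SGA1t.kummer A (fun _ : Unit => (a : A)) (fun _ => n) ≃ₐ[A] B),
      ∀ (ζ : G) (x : SGA1t.kummer A (fun _ : Unit => (a : A)) (fun _ => n)),
        MulSemiringAction.toRingHom G B ζ (φ x) =
          φ (SGA1t.kummerTwist A (fun _ : Unit => (a : A)) (fun _ => n) (fun _ => ι ζ) x) := by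
  classical
  haveI := finite_rootsOfUnity hn1 hn
  haveI : Finite G := Finite.of_equiv _ ι.symm.toEquiv
  letI : Fintype G := Fintype.ofFinite _
  haveI : Module.FaithfullyFlat A B := Module.FaithfullyFlat.of_comap_surjective hsurj
  have hinj : Function.Injective (algebraMap A B) := FaithfulSMul.algebraMap_injective A B
  haveI : Nontrivial B := hinj.nontrivial
  obtain ⟨𝔫₀, h𝔫₀⟩ := Ideal.exists_maximal B
  have hcomap : 𝔫₀.comap (algebraMap A B) = maximalIdeal A := by
    have : (𝔫₀.comap (algebraMap A B)).IsMaximal :=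
      Ideal.isMaximal_comap_of_isIntegral_of_isMaximal 𝔫₀
    exact IsLocalRing.eq_maximalIdeal this
  have hunitA : ∀ a : A, algebraMap A B a ∉ 𝔫₀ → IsUnit a := by
    intro a ha
    by_contra hnu
    apply ha
    have : a ∈ maximalIdeal A := (mem_maximalIdeal a).mpr hnu
    rw [← hcomap] at this
    exact this
  letI : Field (B ⧸ 𝔫₀) := Ideal.Quotient.field 𝔫₀
  let Ω := AlgebraicClosure (B ⧸ 𝔫₀)
  let χ : B →+* Ω := (algebraMap (B ⧸ 𝔫₀) Ω).comp (Ideal.Quotient.mk 𝔫₀)
  have hχmem : ∀ b, b ∈ 𝔫₀ → χ b = 0 := by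
    intro b hb
    change algebraMap (B ⧸ 𝔫₀) Ω (Ideal.Quotient.mk 𝔫₀ b) = 0
    rw [Ideal.Quotient.eq_zero_iff_mem.mpr hb, map_zero]
  obtain ⟨b₀, hb₀⟩ := exists_sum_ne_zero B hfree χ
    (fun g => χ (algebraMap A B (rv A n G ι g⁻¹))) 1 (by
      simp only [inv_one, rv_one, map_one]
      exact one_ne_zero)
  let u := resolvent A B n G ι b₀
  have hu_notin : u ∉ 𝔫₀ := by
    intro hmem
    apply hb₀
    have : χ u = ∑ g : G, χ (algebraMap A B (rv A n G ι g⁻¹)) * χ (g • b₀) := by
      simp only [u, resolvent, map_sum, Algebra.smul_def, map_mul]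
    rw [← this]
    exact hχmem u hmem
  have hgu : ∀ g : G, g • u = algebraMap A B (rv A n G ι g) * u := by
    intro g
    rw [smul_resolvent, Algebra.smul_def]
  have hrvalunit : ∀ g : G, IsUnit (algebraMap A B (rv A n G ι g)) :=
    fun g => (isUnit_rv A n G ι g).map _
  let N := ∏ g : G, g • u
  have hNinv : ∀ h : G, h • N = N := by
    intro h
    change MulSemiringAction.toRingHom _ B h (∏ g : G, g • u) = _
    rw [map_prod]
    refine Fintype.prod_equiv (Equiv.mulLeft h) _ _ (fun g => ?_)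
    change h • (g • u) = (h * g) • u
    rw [smul_smul]
  obtain ⟨a₀, ha₀⟩ := invariant_mem_range A B G htrans N hNinv
  have hN_notin : N ∉ 𝔫₀ := by
    intro hmem
    rw [Ideal.IsPrime.prod_mem_iff] at hmem
    obtain ⟨g, -, hg⟩ := hmem
    rw [hgu] at hg
    rcases h𝔫₀.isPrime.mem_or_mem hg with h1 | h1
    · exact h𝔫₀.ne_top (Ideal.eq_top_of_isUnit_mem _ h1 (hrvalunit g))
    · exact hu_notin h1
  have ha₀unit : IsUnit a₀ := hunitA a₀ (ha₀ ▸ hN_notin)
  have hNunit : IsUnit N := ha₀ ▸ ha₀unit.map (algebraMap A B)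
  have huunit : IsUnit u := by
    have h1 : (1 : G) • u ∣ N :=
      Finset.dvd_prod_of_mem (fun g : G => g • u) (Finset.mem_univ 1)
    rw [one_smul] at h1
    exact isUnit_of_dvd_unit h1 hNunit
  have hun_inv : ∀ g : G, g • u ^ n = u ^ n := by
    intro g
    rw [smul_pow', hgu, mul_pow, ← map_pow, rv_pow, map_one, one_mul]
  obtain ⟨a, ha⟩ := invariant_mem_range A B G htrans (u ^ n) hun_inv
  have haunit : IsUnit a := hunitA a (by
    rw [ha]
    intro hmem
    exact hu_notin (h𝔫₀.isPrime.mem_of_pow_mem n hmem))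
  have hcard : Fintype.card G = n := by
    rw [← Nat.card_eq_fintype_card, Nat.card_congr ι.toEquiv]
    exact card_rootsOfUnity_eq hn1 hn hζ₀
  let e : Fin n ≃ G := (Fintype.equivFinOfCardEq hcard).symm
  have hM : IsUnit (vdmK e u) := by
    rw [Matrix.isUnit_iff_isUnit_det, Matrix.det_vandermonde]
    refine Finset.prod_induction _ IsUnit (fun _ _ => IsUnit.mul) isUnit_one ?_
    intro i _
    refine Finset.prod_induction _ IsUnit (fun _ _ => IsUnit.mul) isUnit_one ?_
    intro j hj
    have hij : i < j := Finset.mem_Ioi.mp hj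
    have hne : ι (e j) ≠ ι (e i) := fun h => (ne_of_gt hij) (e.injective (ι.injective h))
    rw [hgu, hgu, ← sub_mul, ← map_sub]
    exact ((isUnit_sub_of_ne hn hne).map _).mul huunit
  have hker := ker_aeval' e u hM hinj (by omega) a ha
  have hsur := aeval_surjective' e u hM
    (fun b hb => invariant_mem_range A B G htrans b hb)
  have hkerMv := evU_ker n u a hker
  have hsurMv := evU_surjective u hsur
  let a' : Aˣ := haunit.unit
  have ha' : (a' : A) = a := haunit.unit_spec
  let φ : SGA1t.kummer A (fun _ : Unit => (a' : A)) (fun _ => n) ≃ₐ[A] B :=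
    (Ideal.quotientEquivAlgOfEq A (by rw [hkerMv, ha'])).trans
      (Ideal.quotientKerAlgEquivOfSurjective hsurMv)
  have hφ : ∀ q : MvPolynomial Unit A, φ (Ideal.Quotient.mk _ q) = evU u q := fun q => rfl
  refine ⟨a', φ, ?_⟩
  intro ζ x
  let R1 : SGA1t.kummer A (fun _ : Unit => (a' : A)) (fun _ => n) →+* B :=
    (MulSemiringAction.toRingHom G B ζ).comp
      (φ : SGA1t.kummer A (fun _ : Unit => (a' : A)) (fun _ => n) →+* B)
  let R2 : SGA1t.kummer A (fun _ : Unit => (a' : A)) (fun _ => n) →+* B :=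
    (φ : SGA1t.kummer A (fun _ : Unit => (a' : A)) (fun _ => n) →+* B).comp
      (SGA1t.kummerTwist A (fun _ : Unit => (a' : A)) (fun _ => n) (fun _ => ι ζ))
  have hR : R1 = R2 := by
    apply Ideal.Quotient.ringHom_ext
    apply MvPolynomial.ringHom_ext
    · intro r
      change ζ • φ (Ideal.Quotient.mk _ (MvPolynomial.C r)) =
        φ (SGA1t.kummerTwist A (fun _ : Unit => (a' : A)) (fun _ => n) (fun _ => ι ζ)
          (Ideal.Quotient.mk _ (MvPolynomial.C r)))
      have h2 : SGA1t.kummerTwist A (fun _ : Unit => (a' : A)) (fun _ => n) (fun _ => ι ζ)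
          (Ideal.Quotient.mk _ (MvPolynomial.C r)) =
          Ideal.Quotient.mk _ (MvPolynomial.aeval (R := A)
            (fun i : Unit => MvPolynomial.C ((((ι ζ : rootsOfUnity n A) : Aˣ) : A)) * MvPolynomial.X i)
            (MvPolynomial.C r)) := rfl
      rw [h2, hφ, hφ, MvPolynomial.aeval_C, MvPolynomial.aeval_C, AlgHom.commutes,
        smul_algebraMap]
    · intro i
      change ζ • φ (Ideal.Quotient.mk _ (MvPolynomial.X i)) =
        φ (SGA1t.kummerTwist A (fun _ : Unit => (a' : A)) (fun _ => n) (fun _ => ι ζ)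
          (Ideal.Quotient.mk _ (MvPolynomial.X i)))
      have h2 : SGA1t.kummerTwist A (fun _ : Unit => (a' : A)) (fun _ => n) (fun _ => ι ζ)
          (Ideal.Quotient.mk _ (MvPolynomial.X i)) =
          Ideal.Quotient.mk _ (MvPolynomial.aeval (R := A)
            (fun i : Unit => MvPolynomial.C ((((ι ζ : rootsOfUnity n A) : Aˣ) : A)) * MvPolynomial.X i)
            (MvPolynomial.X i)) := rfl
      rw [h2, hφ, hφ, MvPolynomial.aeval_X, MvPolynomial.aeval_X, map_mul, MvPolynomial.aeval_C,
        MvPolynomial.aeval_X, hgu]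
      rfl
  exact DFunLike.congr_fun hR x

end Main

/-- Kummer theory over a local ring. -/
theorem kummer_main (A : Type u) [CommRing A] [IsLocalRing A] (n : ℕ) (hn1 : 1 ≤ n)
    (hn : IsUnit ((n : ℕ) : A)) (ζ₀ : A) (hζ₀ : IsPrimitiveRoot ζ₀ n)
    (P : FEt.Cat (Spec (CommRingCat.of A))) (ρ : ↥(rootsOfUnity n A) →* Aut P)
    (hP : SGA1t.IsPrincipal ↥(rootsOfUnity n A) P ρ) :
    ∃ (a : Aˣ) (e : P.left ≅ Spec (CommRingCat.of
        (SGA1t.kummer A (fun _ : Unit => (a : A)) (fun _ => n)))),
      e.hom ≫ Spec.map (CommRingCat.ofHom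
        (algebraMap A (SGA1t.kummer A (fun _ : Unit => (a : A)) (fun _ => n)))) = P.hom ∧
      ∀ ζ : ↥(rootsOfUnity n A), (ρ ζ).hom.left ≫ e.hom =
        e.hom ≫ Spec.map (CommRingCat.ofHom
          (SGA1t.kummerTwist A (fun _ : Unit => (a : A)) (fun _ => n) (fun _ => ζ))) := by
  obtain ⟨B, _, _, hfin, het, act, hcomm, θ, hθ, hequiv, hsurj, hfree, htrans⟩ :=
    bridge A (rootsOfUnity n A) P ρ hP
  obtain ⟨a, φ, hφ⟩ := kummer_ring_main A B n (rootsOfUnity n A) (MulEquiv.refl _) hn1 hn ζ₀ hζ₀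
    hsurj hfree htrans
  refine ⟨a, θ ≪≫ specIso φ.toRingEquiv, ?_, ?_⟩
  · rw [Iso.trans_hom, Category.assoc]
    change θ.hom ≫ Spec.map (CommRingCat.ofHom (φ.toRingEquiv :
        SGA1t.kummer A (fun _ : Unit => (a : A)) (fun _ => n) →+* B)) ≫
      Spec.map (CommRingCat.ofHom
        (algebraMap A (SGA1t.kummer A (fun _ : Unit => (a : A)) (fun _ => n)))) = P.hom
    rw [← Spec.map_comp, ← CommRingCat.ofHom_comp, ← hθ]
    congr 3
    ext r
    exact φ.commutes r
  · intro ζ
    rw [Iso.trans_hom, ← Category.assoc, hequiv, Category.assoc, Category.assoc]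
    change θ.hom ≫ Spec.map (CommRingCat.ofHom (MulSemiringAction.toRingHom _ B ζ)) ≫
        Spec.map (CommRingCat.ofHom (φ.toRingEquiv :
          SGA1t.kummer A (fun _ : Unit => (a : A)) (fun _ => n) →+* B)) =
      θ.hom ≫ Spec.map (CommRingCat.ofHom (φ.toRingEquiv :
          SGA1t.kummer A (fun _ : Unit => (a : A)) (fun _ => n) →+* B)) ≫
        Spec.map (CommRingCat.ofHom
          (SGA1t.kummerTwist A (fun _ : Unit => (a : A)) (fun _ => n) (fun _ => ζ)))
    rw [← Spec.map_comp, ← Spec.map_comp, ← CommRingCat.ofHom_comp, ← CommRingCat.ofHom_comp]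
    congr 3
    apply RingHom.ext
    intro x
    exact hφ ζ x

end Groth.Agent.H68.AS
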